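import Groth.Agent.Variety.K424.ZeroPull
import Groth.Agent.LocPos.K924.IdealTens

/-!
# Sections generating after twisting by the base ideal

If the common zero scheme of sections `σ_i` of an invertible module `N` is an effective Cartier divisor `D`,
the `σ_i` come from sections of `idealMod D ⊗ N` which generate it.
-/

set_option autoImplicit false
universe u
open CategoryTheory CategoryTheory.Limits AlgebraicGeometry Opposite TopologicalSpace

namespace K480.IitBase

open Groth.Agent Groth.Agent.Fdesc.LocGen Groth.Agent.Dix.IdealModCartier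
open Groth.Agent.Divis.CartierBasic Groth.Agent.CurvesB.SepLift K924.IdealTens Groth.Agent.Pi1C.ZeroScheme

theorem exists_le_span {R : Type*} [CommRing R] [IsLocalRing R] {ι : Type*} [Finite ι] (a : ι → R) (d : R)
    (hd : d ∈ nonZeroDivisors R) (h : Ideal.span (Set.range a) = Ideal.span {d}) :
    ∃ i, Ideal.span {d} ≤ Ideal.span {a i} := by
  cases nonempty_fintype ι
  have h1 : ∀ i, ∃ c, c * d = a i := fun i => by
    have : a i ∈ Ideal.span {d} := h ▸ Ideal.subset_span ⟨i, rfl⟩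
    exact Ideal.mem_span_singleton'.mp this
  choose c hc using h1
  have h2 : d ∈ Ideal.span (Set.range a) := h ▸ Ideal.mem_span_singleton_self d
  obtain ⟨r, hr⟩ := (Submodule.mem_span_range_iff_exists_fun R).mp h2
  have h3 : (∑ i, r i * c i) * d = 1 * d := by
    rw [one_mul, Finset.sum_mul]
    conv_rhs => rw [← hr]
    refine Finset.sum_congr rfl fun i _ => ?_
    rw [mul_assoc, hc, smul_eq_mul]
  have h4 := (mul_cancel_right_mem_nonZeroDivisors hd).1 h3
  obtain ⟨i, hi⟩ : ∃ i, IsUnit (c i) := by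
    by_contra hn
    push Not at hn
    have h5 : (∑ i, r i * c i) ∈ IsLocalRing.maximalIdeal R :=
      Ideal.sum_mem _ fun i _ => Ideal.mul_mem_left _ _ ((IsLocalRing.mem_maximalIdeal _).mpr (hn i))
    rw [h4] at h5
    exact (IsLocalRing.maximalIdeal.isMaximal R).ne_top ((Ideal.eq_top_iff_one _).mpr h5)
  refine ⟨i, ?_⟩
  rw [Ideal.span_singleton_le_iff_mem, Ideal.mem_span_singleton']
  obtain ⟨v, hv⟩ := hi
  refine ⟨(v⁻¹ : Rˣ), ?_⟩
  rw [← hc i, ← hv, ← mul_assoc, Units.inv_mul, one_mul]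

variable {X : Scheme.{u}}

theorem exists_lifts {D : X.IdealSheafData} (hD : BlowUp.IsEffCartierIdeal D) {N : X.Modules}
    (hN : PicF.IsInvertible N) {ι : Type*} [Finite ι] (σ : ι → (Coh.structureModule X ⟶ N))
    (h : D = ⨆ i, PicF2.zeroScheme N (σ i)) :
    ∃ t : ι → Γ(CohB1.tensorMod (ClSub.idealMod D) N, ⊤), (∀ i, (mu D N).app ⊤ (t i) = sec (σ i) ⊤) ∧
      ⨆ i, CohB1.genLocus _ (homOf (t i)) = ⊤ := by
  -- local data
  have key : ∀ x : X, ∃ (V : X.affineOpens) (e : Γ(N, V.1)) (a : ι → Γ(X, V.1)), x ∈ V.1 ∧ IsGen e ∧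
      (∀ i, sec (σ i) V.1 = a i • e) ∧ D.ideal V = Ideal.span (Set.range a) := by
    intro x
    obtain ⟨V, hV, hxV, -, e, he⟩ := exists_affine_isGen hN ⊤ x trivial
    choose a ha using fun i => he.exists_eq (sec (σ i) V)
    refine ⟨⟨V, hV⟩, e, a, hxV, he, ha, ?_⟩
    rw [h, Scheme.IdealSheafData.ideal_iSup]
    rw [iSup_apply]
    simp_rw [fun i => ideal_eq_span (σ i) hN ⟨V, hV⟩ he (ha i)]
    rw [← Ideal.span_iUnion]
    congr 1
    ext z
    simp [eq_comm]
  have h1 : ∀ i, ∃ t, (mu D N).app ⊤ t = sec (σ i) ⊤ := by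
    intro i
    refine exists_lift D hN (sec (σ i) ⊤) fun y => ?_
    obtain ⟨V, e, a, hyV, he, ha, hDV⟩ := key y
    refine ⟨V.1, e, a i, hyV, by rw [res_sec]; exact ha i, ?_⟩
    rw [← mem_ideal_iff_stalk D V (a i), hDV]
    exact Ideal.subset_span ⟨i, rfl⟩
  choose t ht using h1
  refine ⟨t, ht, ?_⟩
  rw [eq_top_iff]
  intro x _
  rw [Opens.mem_iSup]
  obtain ⟨V, e, a, hxV, he, ha, hDV⟩ := key x
  obtain ⟨U, d, hxU, hd⟩ := exists_genOn hD x
  obtain ⟨T, hxT, hT⟩ := exists_affine_mem_le (U.1 ⊓ V.1) x ⟨hxU, hxV⟩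
  have hTU : T.1 ≤ U.1 := hT.trans inf_le_left
  have hst : Ideal.span (Set.range fun i => X.presheaf.germ V.1 x hxV (a i)) =
      Ideal.span {X.presheaf.germ T.1 x hxT (ores hTU d)} := by
    have e1 := stalkIdeal_eq D V hxV
    have e2 := stalkIdeal_eq D T hxT
    rw [hDV, Ideal.map_span, ← Set.range_comp] at e1
    rw [(hd T hTU).2, Ideal.map_span, Set.image_singleton] at e2
    exact e1.symm.trans e2
  obtain ⟨i, hi⟩ := exists_le_span _ _ (germ_mem_nonZeroDivisors T.2 hxT (hd T hTU).1) hst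
  refine ⟨i, ?_⟩
  have hgen : stalkIdeal D x ≤ Ideal.span {X.presheaf.germ V.1 x hxV (a i)} := by
    refine le_trans ?_ hi
    rw [stalkIdeal_eq D T hxT, (hd T hTU).2, Ideal.map_span, Set.image_singleton]
  obtain ⟨W, hxW, hW⟩ := exists_isGen_lift D hD (t i) hxV he (by rw [ht, res_sec]; exact ha i) hgen
  rw [mem_genLocus_iff]
  refine ⟨W, hxW, ?_⟩
  rw [sec_homOf]
  exact hW

end K480.IitBase
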