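import Groth.Agent.Ega2.H295.PnCoord
import Groth.Agent.Lefpen.H717.ProjIrr

/-!
# Surjectivity of a morphism to projective space with algebraically independent ratios of coordinates
-/

set_option autoImplicit false
universe u
open CategoryTheory CategoryTheory.Limits AlgebraicGeometry Opposite TopologicalSpace

namespace K480.IitDom

open Groth.Agent Groth.Agent.Fdesc.LocGen Groth.Agent.VarietyB Groth.Agent.VarietyB.ProjGlue
open Groth.Agent.Ega2.H295.PnUniq Groth.Agent.Ega2.H295.PnCoord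

attribute [local instance] MvPolynomial.gradedAlgebra

variable {X : Scheme.{u}} {m : ℕ} {k : Type u} [Field k]

theorem ratio_self (i : Fin (m + 1)) : ProjStd.ratio (Fin (m + 1)) k i i = 1 :=
  (ProjStd.stdData (Fin (m + 1)) k).f_self i

/-- Dehomogenization. -/
noncomputable def deh (m : ℕ) (k : Type u) [Field k] : MvPolynomial (Fin (m + 1)) k →+* MvPolynomial (Fin m) k :=
  MvPolynomial.eval₂Hom MvPolynomial.C (Fin.cons 1 MvPolynomial.X)

theorem dpHom_deh : dpHom (Fin (m + 1)) k 0 =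
    (MvPolynomial.eval₂Hom (CoordData.baseHom (ProjStd.toSpec (Fin (m + 1)) k) (Dp (Fin (m + 1)) k 0))
      (fun i : Fin m => ProjStd.ratio (Fin (m + 1)) k 0 i.succ)).comp (deh m k) := by
  apply MvPolynomial.ringHom_ext
  · intro a
    rw [dpHom_C, RingHom.comp_apply, deh, MvPolynomial.eval₂Hom_C, MvPolynomial.eval₂Hom_C]
  · intro i
    rw [dpHom_X, RingHom.comp_apply, deh, MvPolynomial.eval₂Hom_X']
    induction i using Fin.cases with
    | zero => rw [Fin.cons_zero, map_one, ratio_self]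
    | succ i => rw [Fin.cons_succ, MvPolynomial.eval₂Hom_X']

theorem injective_appLE (r : X ⟶ Proj (MvPolynomial.homogeneousSubmodule (Fin (m + 1)) k)) (q : X ⟶ Spec (CommRingCat.of k))
    (hq : r ≫ ProjStd.toSpec (Fin (m + 1)) k = q) {V : X.Opens} (e : V ≤ r ⁻¹ᵁ Dp (Fin (m + 1)) k 0)
    (hinj : Function.Injective (MvPolynomial.eval₂Hom (CoordData.baseHom q V)
      (fun i : Fin m => r.appLE (Dp (Fin (m + 1)) k 0) V e (ProjStd.ratio (Fin (m + 1)) k 0 i.succ)))) :
    Function.Injective (r.appLE (Dp (Fin (m + 1)) k 0) V e) := by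
  rw [injective_iff_map_eq_zero]
  intro z hz
  obtain ⟨P, rfl⟩ := dpHom_surjective (I := Fin (m + 1)) (R := k) 0 z
  have h1 : (r.appLE (Dp (Fin (m + 1)) k 0) V e).hom.comp (dpHom (Fin (m + 1)) k 0) =
      (MvPolynomial.eval₂Hom (CoordData.baseHom q V)
      (fun i : Fin m => r.appLE (Dp (Fin (m + 1)) k 0) V e (ProjStd.ratio (Fin (m + 1)) k 0 i.succ))).comp
        (deh m k) := by
    apply MvPolynomial.ringHom_ext
    · intro a
      rw [RingHom.comp_apply, RingHom.comp_apply, dpHom_C, deh, MvPolynomial.eval₂Hom_C, MvPolynomial.eval₂Hom_C]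
      refine (appLE_baseHom r (ProjStd.toSpec (Fin (m + 1)) k) e a).trans ?_
      exact congrArg (fun p => CoordData.baseHom p V a) hq
    · intro i
      rw [RingHom.comp_apply, RingHom.comp_apply, dpHom_X, deh, MvPolynomial.eval₂Hom_X']
      induction i using Fin.cases with
      | zero => rw [Fin.cons_zero, map_one, ratio_self, map_one]
      | succ i => rw [Fin.cons_succ, MvPolynomial.eval₂Hom_X']
  have h2 := congr($h1 P)
  rw [RingHom.comp_apply, RingHom.comp_apply] at h2
  have h3 : deh m k P = 0 := by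
    apply hinj
    rw [← h2, map_zero]
    exact hz
  rw [dpHom_deh, RingHom.comp_apply, h3, map_zero]

theorem surjective_of_ratio [IsIntegral X] (r : X ⟶ Proj (MvPolynomial.homogeneousSubmodule (Fin (m + 1)) k)) (q : X ⟶ Spec (CommRingCat.of k))
    [IsProper r] (hq : r ≫ ProjStd.toSpec (Fin (m + 1)) k = q) {V : X.Opens} (hV : (V : Set X).Nonempty)
    (e : V ≤ r ⁻¹ᵁ Dp (Fin (m + 1)) k 0)
    (hinj : Function.Injective (MvPolynomial.eval₂Hom (CoordData.baseHom q V)
      (fun i : Fin m => r.appLE (Dp (Fin (m + 1)) k 0) V e (ProjStd.ratio (Fin (m + 1)) k 0 i.succ)))) :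
    Surjective r := by
  have h1 := injective_appLE r q hq e hinj
  have hη : genericPoint X ∈ V := (genericPoint_spec X).mem_open_set_iff V.isOpen |>.mpr (by simpa using hV)
  have hD : IsAffineOpen (Dp (Fin (m + 1)) k 0) := ProjStd.isAffineOpen_U (Fin (m + 1)) k 0
  have hcl : closure {r (genericPoint X)} = Set.univ := by
    rw [← dense_iff_closure_eq, dense_iff_inter_open]
    intro O hO hne
    have hirr : PreirreducibleSpace (Proj (MvPolynomial.homogeneousSubmodule (Fin (m + 1)) k)) :=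
      inferInstanceAs (PreirreducibleSpace (CohB1.ProjSpace m k))
    have hne2 : (Dp (Fin (m + 1)) k 0 : Set (Proj (MvPolynomial.homogeneousSubmodule (Fin (m + 1)) k))).Nonempty :=
      ⟨r (genericPoint X), e hη⟩
    obtain ⟨p, hp, hpD⟩ := nonempty_preirreducible_inter hO (Dp (Fin (m + 1)) k 0).isOpen hne hne2
    obtain ⟨f, hf, hpf⟩ := hD.exists_basicOpen_le (V := ⟨O, hO⟩) ⟨p, hp⟩ hpD
    have hf0 : f ≠ 0 := by
      rintro rfl
      rw [Scheme.basicOpen_zero] at hpf
      exact hpf
    have h2 : r.appLE (Dp (Fin (m + 1)) k 0) V e f ≠ 0 := fun h => hf0 (h1 (h.trans (map_zero _).symm))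
    have h3 : X.basicOpen (r.appLE (Dp (Fin (m + 1)) k 0) V e f) ≠ ⊥ := by
      rwa [Ne, basicOpen_eq_bot_iff]
    have h4 : genericPoint X ∈ X.basicOpen (r.appLE (Dp (Fin (m + 1)) k 0) V e f) := by
      refine (genericPoint_spec X).mem_open_set_iff (X.basicOpen _).isOpen |>.mpr ?_
      obtain ⟨x, hx⟩ := (Opens.ne_bot_iff_nonempty _).mp h3
      exact ⟨x, trivial, hx⟩
    rw [Scheme.basicOpen_appLE] at h4
    exact ⟨_, hf h4.2, rfl⟩
  constructor
  intro p
  have h2 : IsClosed (Set.range r) := r.isClosedMap.isClosed_range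
  have h3 : closure {r (genericPoint X)} ⊆ Set.range r := closure_minimal (by
    rintro _ rfl
    exact ⟨_, rfl⟩) h2
  rw [hcl] at h3
  exact h3 trivial

theorem surjective_of_ratio' [IsIntegral X] (r : X ⟶ Proj (MvPolynomial.homogeneousSubmodule (Fin (m + 1)) k))
    (q : X ⟶ Spec (CommRingCat.of k)) [IsProper r] (hq : r ≫ ProjStd.toSpec (Fin (m + 1)) k = q) {V : X.Opens}
    (hV : (V : Set X).Nonempty) (e : V ≤ r ⁻¹ᵁ Dp (Fin (m + 1)) k 0) (g : Fin m → Γ(X, V))
    (hg : ∀ i : Fin m, r.appLE (Dp (Fin (m + 1)) k 0) V e (ProjStd.ratio (Fin (m + 1)) k 0 i.succ) = g i)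
    (hinj : Function.Injective (MvPolynomial.eval₂Hom (CoordData.baseHom q V) g)) : Surjective r := by
  obtain rfl : (fun i : Fin m => r.appLE (Dp (Fin (m + 1)) k 0) V e (ProjStd.ratio (Fin (m + 1)) k 0 i.succ)) = g :=
    funext hg
  exact surjective_of_ratio r q hq hV e hinj

end K480.IitDom
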