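import Groth.Agent.Vanish.K480.IitSec
import Groth.Agent.Vanish.K480.IitDom
import Groth.Agent.Vanish.K480.IitBase
import Groth.Agent.Ega2.H18.PnExist
import Groth.Agent.EtDl.K555.BlowGeo
import Groth.Agent.Divis.BlowUpFormal
import Groth.Agent.Sga67.BlowAmple
import Groth.Agent.S8859
import Groth.Agent.S2348
import Groth.Agent.Sga7.H591.Dcl
import Groth.Agent.Sga67.SerreVB

/-!
# A dominant map to projective space from growth of sections

`iit`: `X` integral and proper over a field `k`, with an ample module, `L` an invertible module with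
`μ^m ≤ a h^0(L^(νμ))` for all `μ ≥ 1`. There are `e > 0`, a blow-up `π : X' ⟶ X` which is an isomorphism over a
nonempty open, `X'` integral with an ample module, a surjective `k`-morphism `φ : X' ⟶ ℙ^m` and an effective
Cartier divisor `E'` on `X'` with `π^* L^e (-E') ≅ φ^* O(1)`.
-/

set_option autoImplicit false
universe u
open CategoryTheory CategoryTheory.Limits AlgebraicGeometry Opposite TopologicalSpace

namespace K480.Iit

open Groth.Agent Groth.Agent.Fga Groth.Agent.Fga.PicMon Groth.Agent.Fdesc.LocGen K910.HZ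
open Groth.Agent.VarietyB Groth.Agent.VarietyB.ProjGlue Groth.Agent.Ega2.H295.PnUniq
open Groth.Agent.Ega2.H295.PnCoord Groth.Agent.CurvesB.SepLift

attribute [local instance] MvPolynomial.gradedAlgebra

variable {k : Type u} [Field k] {X : Scheme.{u}}

theorem comap_iSup {X Y : Scheme.{u}} {ι : Type*} (J : ι → Y.IdealSheafData) (f : X ⟶ Y) :
    (⨆ i, J i).comap f = ⨆ i, (J i).comap f :=
  (Scheme.IdealSheafData.map_gc f).l_iSup

/-- The common zero scheme does not contain the points where one of the sections generates. -/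
theorem notMem_support {N : X.Modules} (hN : PicF.IsInvertible N) {m : ℕ}
    (s : Fin (m + 1) → (Coh.structureModule X ⟶ N)) (x : X) (hx : x ∈ CohB1.genLocus N (s 0)) :
    x ∉ (⨆ i, PicF2.zeroScheme N (s i)).support := by
  intro h
  have h1 : (⨆ i, PicF2.zeroScheme N (s i)).support ≤ (PicF2.zeroScheme N (s 0)).support :=
    Scheme.IdealSheafData.support_antitone (le_iSup (fun i => PicF2.zeroScheme N (s i)) 0)
  exact (Pi1C.ZeroScheme.mem_support_iff (s 0) hN x).mp (h1 h) hx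

theorem isDominant_of_genericPoint {X Y : Scheme.{u}} [IsIntegral X] [IsIntegral Y] (f : X ⟶ Y)
    (h : f (genericPoint X) = genericPoint Y) : IsDominant f := by
  refine ⟨?_⟩
  show Dense (Set.range f)
  rw [dense_iff_closure_eq, ← Set.top_eq_univ, eq_top_iff]
  have h1 : closure {genericPoint Y} = (Set.univ : Set Y) := genericPoint_closure _
  rw [Set.top_eq_univ, ← h1]
  exact closure_mono (by rintro _ rfl; exact ⟨_, h⟩)

theorem exists_model {X : Scheme.{u}} [IsIntegral X] (p : X ⟶ Spec (CommRingCat.of k)) [IsProper p]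
    {H : X.Modules} (hH : CohB1.IsAmple H) {N : X.Modules} (hN : PicF.IsInvertible N) {m : ℕ}
    (s : Fin (m + 1) → (Coh.structureModule X ⟶ N)) (U : X.Opens) (hU : (U : Set X).Nonempty)
    (y : Fin m → Γ(X, U)) (h0 : IsGen (sec (s 0) U)) (hy : ∀ i : Fin m, sec (s i.succ) U = y i • sec (s 0) U)
    (hinj : Function.Injective (MvPolynomial.eval₂Hom (CoordData.baseHom p U) y)) :
    ∃ (X' : Scheme.{u}) (π : X' ⟶ X) (_ : IsIntegral X') (_ : IsProper π)
      (_ : ∃ V : X.Opens, (V : Set X).Nonempty ∧ IsIso (π ∣_ V))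
      (H' : X'.Modules) (_ : CohB1.IsAmple H') (φ : X' ⟶ CohB1.ProjSpace m k)
      (_ : φ ≫ CohB1.ProjSpace.toSpec m k = π ≫ p) (_ : Surjective φ) (E' : X'.IdealSheafData)
      (_ : BlowUp.IsEffCartierIdeal E'),
      Nonempty ((Scheme.Modules.pullback φ).obj (Twist.twistProjSpace m k 1) ≅
        CohB1.tensorMod (ClSub.idealMod E') ((Scheme.Modules.pullback π).obj N)) := by
  have hln : IsLocallyNoetherian X := LocallyOfFiniteType.isLocallyNoetherian p
  obtain ⟨x₀, hx₀⟩ := hU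
  set I : X.IdealSheafData := ⨆ i, PicF2.zeroScheme N (s i) with hI
  have hx₀I : x₀ ∉ I.support := notMem_support hN s x₀ ((le_genLocus_iff (s 0) U).mpr h0 hx₀)
  have hI0 : I ≠ ⊥ := by
    rintro h
    rw [h] at hx₀I
    exact hx₀I (by rw [Scheme.IdealSheafData.support_bot]; trivial)
  obtain ⟨X', π, hb⟩ := S8859.result X I
  obtain ⟨hint, hgen, -⟩ := S2348.result I hI0 π hb
  have hπ : IsProper π := K555.BlowGeo.isProper hb
  obtain ⟨H', hH'⟩ := Sga67.BlowAmple.exists_isAmple hb H hH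
  set N' := (Scheme.Modules.pullback π).obj N with hN'def
  have hN' : PicF.IsInvertible N' := isInvertible_pullback π hN
  obtain ⟨t, ht, hcov⟩ := IitBase.exists_lifts hb.1 hN' (fun i => pullHom π (s i)) (by
    rw [hI, comap_iSup]
    exact iSup_congr fun i => K424.ZeroPull.zeroScheme_comap π hN (s i))
  obtain ⟨φ, hφ, τ, hτ⟩ := Ega2.H18.PnExist.exists_map m (π ≫ p) _ t hcov
  have hφp : IsProper φ := by
    have h1 : IsProper (φ ≫ CohB1.ProjSpace.toSpec m k) := by rw [hφ]; infer_instance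
    exact IsProper.of_comp φ (CohB1.ProjSpace.toSpec m k)
  -- the ratios over `π⁻¹ U`
  have hσ : ∀ i, sec (pullHom π (s i)) (π ⁻¹ᵁ U) = pullSec π (sec (s i) U) := fun i => sec_pullHom π (s i) U
  let g : Fin (m + 1) → Γ(X', π ⁻¹ᵁ U) := Fin.cons 1 (fun i => (π.app U (y i) : Γ(X', π ⁻¹ᵁ U)))
  have hrel : ∀ i, sec (pullHom π (s i)) (π ⁻¹ᵁ U) = g i • sec (pullHom π (s 0)) (π ⁻¹ᵁ U) := by
    intro i
    induction i using Fin.cases with
    | zero => exact (one_smul _ _).symm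
    | succ i =>
      rw [hσ, hσ, hy, pullSec_smul]
      rfl
  let M' := CohB1.tensorMod (ClSub.idealMod (I.comap π)) N'
  let T : Fin (m + 1) → Γ((Scheme.Modules.pullback φ).obj (Twist.twistProjSpace m k 1), π ⁻¹ᵁ U) := fun i =>
    res ((Scheme.Modules.pullback φ).obj (Twist.twistProjSpace m k 1)) (le_top : π ⁻¹ᵁ U ≤ ⊤) (tsec φ i)
  have hval : ∀ i, (mu (I.comap π) N').app (π ⁻¹ᵁ U) (τ.hom.app (π ⁻¹ᵁ U) (T i)) =
      sec (pullHom π (s i)) (π ⁻¹ᵁ U) := by
    intro i
    have e1 : τ.hom.app ⊤ (tsec φ i) = t i := hτ i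
    show (mu (I.comap π) N').app (π ⁻¹ᵁ U) (τ.hom.app (π ⁻¹ᵁ U)
      (res ((Scheme.Modules.pullback φ).obj (Twist.twistProjSpace m k 1)) (le_top : π ⁻¹ᵁ U ≤ ⊤) (tsec φ i))) = _
    rw [app_res, app_res, e1, ht, res_sec]
  have hinj1 : Function.Injective ((mu (I.comap π) N').app (π ⁻¹ᵁ U)) := mu_injective _ hN' _
  have hinj2 : Function.Injective (τ.hom.app (π ⁻¹ᵁ U)) :=
    Function.LeftInverse.injective (g := τ.inv.app (π ⁻¹ᵁ U)) fun z => by
      have h1 := congr(($(τ.hom_inv_id)).app (π ⁻¹ᵁ U) z)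
      exact h1
  have hsm : ∀ i, (mu (I.comap π) N').app (π ⁻¹ᵁ U) (τ.hom.app (π ⁻¹ᵁ U) (g i • T 0)) =
      g i • sec (pullHom π (s 0)) (π ⁻¹ᵁ U) := by
    intro i
    rw [Scheme.Modules.Hom.app_smul, Scheme.Modules.Hom.app_smul, hval]
  obtain ⟨e, he⟩ := ratio_of_rel φ 0 (V := π ⁻¹ᵁ U) g (fun i =>
    hinj2 (hinj1 (((hval i).trans (hrel i)).trans (hsm i).symm)))
  have hne : ((π ⁻¹ᵁ U : X'.Opens) : Set X').Nonempty := by
    refine ⟨genericPoint X', ?_⟩
    show π (genericPoint X') ∈ U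
    rw [show π (genericPoint X') = genericPoint X from hgen]
    exact (genericPoint_spec X).mem_open_set_iff U.isOpen |>.mpr ⟨x₀, trivial, hx₀⟩
  have hsurj : Surjective φ := by
    have hφp' : @IsProper X' (Proj (MvPolynomial.homogeneousSubmodule (Fin (m + 1)) k)) φ := hφp
    refine @IitDom.surjective_of_ratio' X' m k _ _ φ (π ≫ p) hφp' hφ (π ⁻¹ᵁ U) hne e
      (fun i => (π.app U (y i) : Γ(X', π ⁻¹ᵁ U))) (fun i => he i.succ) ?_
    have h2 : MvPolynomial.eval₂Hom (CoordData.baseHom (π ≫ p) (π ⁻¹ᵁ U))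
        (fun i => (π.app U (y i) : Γ(X', π ⁻¹ᵁ U))) =
        (π.app U).hom.comp (MvPolynomial.eval₂Hom (CoordData.baseHom p U) y) := by
      apply MvPolynomial.ringHom_ext
      · intro a
        rw [RingHom.comp_apply, MvPolynomial.eval₂Hom_C, MvPolynomial.eval₂Hom_C]
        have h3 := appLE_baseHom π p (le_refl (π ⁻¹ᵁ U)) a
        rw [← h3, Scheme.Hom.app_eq_appLE]
      · intro i
        rw [RingHom.comp_apply, MvPolynomial.eval₂Hom_X', MvPolynomial.eval₂Hom_X']
    rw [h2]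
    have hdom : IsDominant π := isDominant_of_genericPoint π hgen
    have : IsSchemeTheoreticallyDominant π := IsSchemeTheoreticallyDominant.of_isDominant _
    exact (π.app_injective U).comp hinj
  refine ⟨X', π, hint, hπ, ⟨⟨(I.support : Set X)ᶜ, I.support.isClosed.isOpen_compl⟩, ⟨x₀, hx₀I⟩,
    Divis.BlowUpFormal.isIso_morphismRestrict_compl_support hb _ disjoint_compl_left⟩, H', hH', φ, hφ, hsurj,
    I.comap π, hb.1, ⟨τ⟩⟩

open Groth.Agent.Grpsch.PicGrp Groth.Agent.Sga7.H591.Dcl in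
/-- **Node (IIT)**. -/
theorem iit (k : Type u) [Field k] (X : Scheme.{u}) [X.Over (Spec (CommRingCat.of k))]
    [IsProper (X ↘ Spec (CommRingCat.of k))] [IsIntegral X] {H : X.Modules} (hH : CohB1.IsAmple H)
    {L : X.Modules} (hL : PicF.IsInvertible L) (m : ℕ)
    (hg : ∃ ν a : ℕ, 0 < ν ∧ 0 < a ∧ ∀ μ : ℕ, 1 ≤ μ →
      μ ^ m ≤ a * Module.finrank k (Coh.HH X (CohB1.tensorPow L (ν * μ)) 0)) :
    ∃ (e : ℕ) (_ : 0 < e) (X' : Scheme.{u}) (π : X' ⟶ X) (_ : IsIntegral X') (_ : IsProper π)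
      (_ : ∃ V : X.Opens, (V : Set X).Nonempty ∧ IsIso (π ∣_ V))
      (H' : X'.Modules) (_ : CohB1.IsAmple H') (φ : X' ⟶ CohB1.ProjSpace m k)
      (_ : φ ≫ CohB1.ProjSpace.toSpec m k = π ≫ (X ↘ Spec (CommRingCat.of k))) (_ : Surjective φ)
      (E' : X'.IdealSheafData) (hE' : BlowUp.IsEffCartierIdeal E')
      (hO : PicF.IsInvertible (Twist.twistProjSpace m k 1)),
      pull π (mk L hL) ^ e * dcl E' hE' = pull φ (mk (Twist.twistProjSpace m k 1) hO) := by
  obtain ⟨ν, a, hν, ha, hg⟩ := hg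
  have hM : PicF.IsInvertible (CohB1.tensorPow L ν) := isInvertible_tensorPow hL ν
  obtain ⟨e, he, s, U, hU, y, h0, hy, hinj⟩ := IitSec.exists_sections k hH hM m a (fun μ hμ => by
    have h1 := hg μ hμ
    have h2 : HZ k X (mc (CohB1.tensorPow L ν) ^ μ) =
        Module.finrank k (Coh.HH X (CohB1.tensorPow L (ν * μ)) 0) := by
      rw [← HZ_mc, mc_tensorPow, mc_tensorPow, pow_mul]
    rw [h2]
    exact h1)
  obtain ⟨X', π, h1, h2, h3, H', hH', φ, hφ, hs, E', hE', ⟨τ⟩⟩ :=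
    exists_model (X ↘ Spec (CommRingCat.of k)) hH (isInvertible_tensorPow hM e) s U hU y h0 hy hinj
  have hO : PicF.IsInvertible (Twist.twistProjSpace m k 1) := Sga67.SerreVB.isInvertible_twist m k 1
  refine ⟨ν * e, Nat.mul_pos hν he, X', π, h1, h2, h3, H', hH', φ, hφ, hs, E', hE', hO, ?_⟩
  have e1 : pull φ (mk (Twist.twistProjSpace m k 1) hO) =
      dcl E' hE' * pull π (mk (CohB1.tensorPow (CohB1.tensorPow L ν) e) (isInvertible_tensorPow hM e)) := by
    rw [pull_mk, pull_mk, dcl, mk_mul_mk, mk_eq_iff]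
    exact ⟨τ⟩
  rw [e1, mul_comm]
  congr 1
  rw [mk_tensorPow hM, mk_tensorPow hL, ← pow_mul, map_pow]

end K480.Iit

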