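import Mathlib
import Groth.Agent.Ega4B.DimFT

/-!
# Transcendence bases inside a subset, and a prime ideal of the generic fibre

`A` a finitely generated domain over a field `k`, `V` a subset of `A`. There are `y₁, …, y_t ∈ V` algebraically
independent over `k` and a prime `q` of `A` with `dim A / q ≤ t` containing no nonzero element of `V`.
-/

set_option autoImplicit false
universe u
open Algebra TensorProduct

namespace K480.IitAlg

theorem exists_family {k A : Type u} [Field k] [CommRing A] [IsDomain A] [Algebra k A] [Algebra.FiniteType k A]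
    (V : Set A) :
    ∃ (t : ℕ) (y : Fin t → A), (∀ i, y i ∈ V) ∧ AlgebraicIndependent k y ∧
      ∀ f ∈ V, IsAlgebraic (adjoin k (Set.range y)) f := by
  obtain ⟨s, -, hs⟩ := exists_maximal_algebraicIndependent (R := k) (∅ : Set A) V (Set.empty_subset _)
    ((algebraicIndependent_empty_iff k A).mpr (FaithfulSMul.algebraMap_injective k A))
  have h1 : AlgebraicIndependent k ((↑) : s → A) := hs.prop.1
  have hfin : Cardinal.mk s < Cardinal.aleph0 :=
    h1.cardinalMk_le_trdeg.trans_lt trdeg_lt_aleph0_of_finiteType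
  have : Finite s := Cardinal.lt_aleph0_iff_finite.mp hfin
  let e := Finite.equivFin s
  have hr : Set.range (fun i => (e.symm i : A)) = s := by
    ext a
    constructor
    · rintro ⟨i, rfl⟩
      exact (e.symm i).2
    · intro ha
      exact ⟨e ⟨a, ha⟩, congrArg Subtype.val (e.symm_apply_apply ⟨a, ha⟩)⟩
  refine ⟨Nat.card s, fun i => (e.symm i : A), fun i => hs.prop.2 (e.symm i).2, h1.comp _ e.symm.injective, ?_⟩
  intro f hf
  rw [hr]
  by_contra hna
  have h2 : AlgebraicIndepOn k id (insert f s) :=
    AlgebraicIndepOn.insert hs.prop.1 (by rw [Set.image_id]; exact hna)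
  have h3 := hs.le_of_ge ⟨h2, Set.insert_subset hf hs.prop.2⟩ (Set.subset_insert _ _)
  have h4 : f ∈ s := h3 (Set.mem_insert _ _)
  exact hna (isAlgebraic_algebraMap (⟨f, subset_adjoin h4⟩ : adjoin k s))

/-- An element algebraic over the subalgebra generated by an algebraically independent family is algebraic
over the polynomial ring. -/
theorem isAlgebraic_mv {k A : Type u} [Field k] [CommRing A] [Algebra k A] {t : ℕ} (y : Fin t → A) (f : A)
    (hf : IsAlgebraic (adjoin k (Set.range y)) f) (hy : AlgebraicIndependent k y) :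
    ∃ p : Polynomial (MvPolynomial (Fin t) k), p ≠ 0 ∧ p.eval₂ (MvPolynomial.aeval y).toRingHom f = 0 := by
  obtain ⟨p, hp, hpf⟩ := hf
  let e : MvPolynomial (Fin t) k ≃ₐ[k] adjoin k (Set.range y) := hy.aevalEquiv
  refine ⟨p.map e.symm.toRingEquiv.toRingHom, ?_, ?_⟩
  · rw [Ne, Polynomial.map_eq_zero_iff]
    · exact hp
    · exact e.symm.injective
  · rw [Polynomial.eval₂_map]
    have h : (MvPolynomial.aeval y).toRingHom.comp e.symm.toRingEquiv.toRingHom =
        algebraMap (adjoin k (Set.range y)) A := by
      ext a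
      obtain ⟨b, rfl⟩ := e.surjective a
      have h1 : algebraMap (adjoin k (Set.range y)) A (e b) = MvPolynomial.aeval y b :=
        hy.algebraMap_aevalEquiv b
      rw [h1]
      show MvPolynomial.aeval y (e.symm (e b)) = _
      rw [e.symm_apply_apply]
    rw [h]
    exact hpf

theorem exists_prime {k A : Type u} [Field k] [CommRing A] [IsDomain A] [Algebra k A] [Algebra.FiniteType k A]
    (V : Set A) :
    ∃ (t : ℕ) (y : Fin t → A) (q : Ideal A), (∀ i, y i ∈ V) ∧ AlgebraicIndependent k y ∧ q.IsPrime ∧
      (∀ f ∈ V, f ≠ 0 → f ∉ q) ∧ ringKrullDim (A ⧸ q) ≤ t := by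
  obtain ⟨t, y, hyV, hy, halg⟩ := exists_family (k := k) V
  let _ : Algebra (MvPolynomial (Fin t) k) A := (MvPolynomial.aeval y).toRingHom.toAlgebra
  have halgmap : algebraMap (MvPolynomial (Fin t) k) A = (MvPolynomial.aeval y).toRingHom := rfl
  have hinj : Function.Injective (algebraMap (MvPolynomial (Fin t) k) A) := hy
  have : IsScalarTower k (MvPolynomial (Fin t) k) A := IsScalarTower.of_algebraMap_eq fun a =>
    ((MvPolynomial.aeval y).commutes a).symm
  have hft : Algebra.FiniteType (MvPolynomial (Fin t) k) A := Algebra.FiniteType.of_restrictScalars_finiteType k _ _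
  let P := MvPolynomial (Fin t) k
  let K := FractionRing P
  let F := K ⊗[P] A
  have hKF : Function.Injective (algebraMap K F) := by
    have h1 : Function.Injective (LinearMap.lTensor K (Algebra.linearMap P A)) :=
      Module.Flat.lTensor_preserves_injective_linearMap _ hinj
    intro a b hab
    have h2 : LinearMap.lTensor K (Algebra.linearMap P A) (a ⊗ₜ[P] (1 : P)) =
        LinearMap.lTensor K (Algebra.linearMap P A) (b ⊗ₜ[P] (1 : P)) := by
      rw [LinearMap.lTensor_tmul, LinearMap.lTensor_tmul, Algebra.linearMap_apply, map_one]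
      exact hab
    have h3 := h1 h2
    have h4 := congrArg (TensorProduct.rid P K) h3
    simpa using h4
  have : Nontrivial F := hKF.nontrivial
  obtain ⟨N, hN⟩ := Ideal.exists_maximal F
  have hq : (N.comap (Algebra.TensorProduct.includeRight : A →ₐ[P] F).toRingHom).IsPrime := Ideal.IsPrime.comap _
  set q := N.comap (Algebra.TensorProduct.includeRight : A →ₐ[P] F).toRingHom with hqdef
  have hqP : ∀ p : P, algebraMap P A p ∈ q → p = 0 := by
    intro p hp
    by_contra hp0
    have h1 : algebraMap P F p ∈ N := by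
      have : (Algebra.TensorProduct.includeRight : A →ₐ[P] F) (algebraMap P A p) = algebraMap P F p :=
        (Algebra.TensorProduct.includeRight : A →ₐ[P] F).commutes p
      rw [← this]
      exact hp
    rw [IsScalarTower.algebraMap_apply P K F] at h1
    have h2 : IsUnit (algebraMap P K p) := by
      rw [isUnit_iff_ne_zero, Ne, map_eq_zero_iff _ (IsFractionRing.injective P K)]
      exact hp0
    exact hN.ne_top (Ideal.eq_top_of_isUnit_mem _ h1 (h2.map _))
  refine ⟨t, y, q, hyV, hy, hq, ?_, ?_⟩
  · intro f hf hf0 hfq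
    obtain ⟨p, hp, hpf⟩ := isAlgebraic_mv y f (halg f hf) hy
    have h2 : IsAlgebraic P f := ⟨p, hp, by rw [Polynomial.aeval_def]; exact hpf⟩
    obtain ⟨r, hr0, hr⟩ := h2.exists_nonzero_dvd (mem_nonZeroDivisors_of_ne_zero hf0)
    exact hr0 (hqP r (Ideal.mem_of_dvd _ hr hfq))
  · -- the dimension
    have hfin : Algebra.FiniteType k (A ⧸ q) := inferInstance
    obtain ⟨n, hn, hn'⟩ := Groth.Agent.Ega4B.DimFT.exists_dim k (A ⧸ q)
    rw [hn']
    have hPq : Function.Injective (algebraMap P (A ⧸ q)) := by
      rw [injective_iff_map_eq_zero]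
      intro p hp
      exact hqP p (by rwa [IsScalarTower.algebraMap_apply P A (A ⧸ q), Ideal.Quotient.algebraMap_eq,
        Ideal.Quotient.eq_zero_iff_mem] at hp)
    have : FaithfulSMul P (A ⧸ q) := (faithfulSMul_iff_algebraMap_injective _ _).mpr hPq
    have hint : Algebra.IsAlgebraic P (A ⧸ q) := by
      let _ : Field (F ⧸ N) := Ideal.Quotient.field N
      have hfin1 : Algebra.FiniteType K (F ⧸ N) := inferInstance
      have hfin2 : Module.Finite K (F ⧸ N) := finite_of_finite_type_of_isJacobsonRing K (F ⧸ N)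
      have h1 : Algebra.IsAlgebraic K (F ⧸ N) := Algebra.IsAlgebraic.of_finite K (F ⧸ N)
      have h2 : Algebra.IsAlgebraic P (F ⧸ N) :=
        (IsFractionRing.comap_isAlgebraic_iff (A := P) (K := K) (C := F ⧸ N)).mpr h1
      let g : (A ⧸ q) →ₐ[P] (F ⧸ N) := Ideal.quotientMapₐ N (Algebra.TensorProduct.includeRight : A →ₐ[P] F) le_rfl
      have hg : Function.Injective g := Ideal.quotientMap_injective
      exact Algebra.IsAlgebraic.of_injective g hg
    have h5 : Algebra.trdeg k P + Algebra.trdeg P (A ⧸ q) = Algebra.trdeg k (A ⧸ q) := trdeg_add_eq k P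
    rw [trdeg_eq_zero (R := P), add_zero, hn, MvPolynomial.trdeg_of_isDomain] at h5
    have h6 : (n : Cardinal.{u}) = t := by
      rw [← h5]; simp
    have h7 : n = t := by exact_mod_cast h6
    rw [h7]

end K480.IitAlg
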