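import Groth.Agent.Vanish.K910.Upper
import Groth.Agent.Variety.K424.IntSum
import Groth.Agent.Variety.K430.FibOm
import Groth.Agent.CurvesB.SepLift
import Groth.Agent.Variety.K427.ComplConn
import Groth.Agent.VarietyB.DegCartier
import Groth.Agent.Vanish.K480.IitAlg

/-!
# Growth of sections and restriction to the closure of a point

* `HZ_le_of_forall`: if every nonzero section of an invertible module `N` generates `N` at the point `x`,
  then `h^0(N) ≤ h^0(N ⊗ O_T)`, `T` the closure of `x`.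
* `le_of_growth`: if this holds for all powers of `M`, then `h^0(M^μ)` does not grow like `μ^m` for
  `m > dim T`.
-/

set_option autoImplicit false
universe u
open CategoryTheory CategoryTheory.Limits AlgebraicGeometry Opposite TopologicalSpace

namespace K480.IitGrow

open Groth.Agent Groth.Agent.Fga Groth.Agent.Fga.PicMon Groth.Agent.Fdesc.LocGen K910.HZ
open Groth.Agent.CurvesB.SepLift K424.IntSum

variable {X : Scheme.{u}}

theorem mu_vI_eq_zero {N : X.Modules} (hN : PicF.IsInvertible N) (x : X)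
    (h : ∀ s : Coh.structureModule X ⟶ N, s ≠ 0 → x ∈ CohB1.genLocus N s)
    (t : Γ(CohB1.tensorMod (ClSub.idealMod (vI x)) N, ⊤)) : t = 0 := by
  apply mu_injective (vI x) hN ⊤
  rw [map_zero]
  by_contra hne
  have hs : homOf ((mu (vI x) N).app ⊤ t) ≠ 0 := by
    intro h0
    apply hne
    have h1 := sec_homOf ((mu (vI x) N).app ⊤ t) ⊤
    rw [h0, res_refl] at h1
    rw [← h1]
    rfl
  obtain ⟨V, hxV, hV⟩ := (mem_genLocus_iff _ x).mp (h _ hs)
  rw [sec_homOf] at hV
  have h2 : (pr (vI x) N).app V (res N le_top ((mu (vI x) N).app ⊤ t)) = 0 := by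
    rw [app_res]
    have := cokernel.condition (mu (vI x) N)
    have h3 : (pr (vI x) N).app ⊤ ((mu (vI x) N).app ⊤ t) = 0 := congr(($this).app ⊤ t)
    rw [h3, map_zero]
  have h4 := exists_coeff_of_pr_eq_zero (vI x) hN hV _ h2 1 (one_smul _ _).symm
  rw [map_one] at h4
  have hz := map_genericPoint_vI x
  have hzV : genericPoint (vI x).subscheme ∈ (vI x).subschemeι ⁻¹ᵁ V := by
    show (vI x).subschemeι (genericPoint (vI x).subscheme) ∈ V
    rw [hz]; exact hxV
  have h5 : (1 : (vI x).subscheme.presheaf.stalk (genericPoint (vI x).subscheme)) = 0 := by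
    rw [← map_one ((vI x).subscheme.presheaf.germ _ _ hzV).hom,
      ← map_zero ((vI x).subscheme.presheaf.germ _ _ hzV).hom, h4]
  exact one_ne_zero h5

section

variable (k : Type u) [Field k] [X.Over (Spec (CommRingCat.of k))] [IsProper (X ↘ Spec (CommRingCat.of k))]

theorem HZ_le_of_forall {N : X.Modules} (hN : PicF.IsInvertible N) (x : X)
    (h : ∀ s : Coh.structureModule X ⟶ N, s ≠ 0 → x ∈ CohB1.genLocus N s) :
    HZ k X (mc N) ≤ HZ k X (mc N * mc (ClSub.quotMod (vI x))) := by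
  have := HypSec.isNoetherian k X
  have h1 := (HZ_le_of_shortExact k (VarietyB.DegCartier.idealSeq (vI x))
    (VarietyB.DegCartier.idealSeq_shortExact _) (VarietyB.DegCartier.isCoh_idealMod _)
    (CurvesB.UnitCoh.isCoh_structureModule X) (VarietyB.DegCartier.isCoh_quotMod _) (inv_mc hN)).2
  have h2 : HZ k X (mc N * mc (ClSub.idealMod (vI x))) = 0 := by
    rw [mul_comm, ← mc_tensor, HZ_mc]
    have : Subsingleton (Coh.HH X (CohB1.tensorMod (ClSub.idealMod (vI x)) N) 0) := by
      refine ⟨fun a b => (CurvesB.HZero.equivAdd _).injective ?_⟩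
      rw [mu_vI_eq_zero hN x h (CurvesB.HZero.equivAdd _ a), mu_vI_eq_zero hN x h (CurvesB.HZero.equivAdd _ b)]
    exact Module.finrank_zero_of_subsingleton
  have h3 : mc N * mc (VarietyB.DegCartier.idealSeq (vI x)).X₂ = mc N := by
    show mc N * mc (Coh.structureModule X) = mc N
    rw [mc_one, mul_one]
  have h4 : mc N * mc (VarietyB.DegCartier.idealSeq (vI x)).X₁ = mc N * mc (ClSub.idealMod (vI x)) := rfl
  rw [h3, h4, h2, zero_add] at h1
  exact h1

theorem le_of_growth [IsIntegral X] {H : X.Modules} (hH : CohB1.IsAmple H) {M : X.Modules} (hM : PicF.IsInvertible M) (x : X)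
    (h : ∀ (μ : ℕ) (s : Coh.structureModule X ⟶ CohB1.tensorPow M μ), s ≠ 0 → x ∈ CohB1.genLocus _ s)
    (t m a : ℕ) (ht : topologicalKrullDim (closure {x} : Set X) ≤ t)
    (hg : ∀ μ : ℕ, 1 ≤ μ → μ ^ m ≤ a * HZ k X (mc M ^ μ)) : m ≤ t := by
  have := HypSec.isNoetherian k X
  obtain ⟨d, hd⟩ := K427.ComplConn.exists_dim k X
  have hsupp : topologicalKrullDim (CohB1.support (ClSub.quotMod (vI x))) ≤ t :=
    (Fga.DimLt.topologicalKrullDim_mono (support_quotMod_vI x)).trans ht
  obtain ⟨C, hC⟩ := K910.Growth.upper k d hd.le hH hM (VarietyB.DegCartier.isCoh_quotMod (vI x)) t hsupp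
  have key : ∀ μ : ℕ, 1 ≤ μ → μ ^ m ≤ (a * C * 2 ^ t) * μ ^ t := by
    intro μ hμ
    have h1 := HZ_le_of_forall k (isInvertible_tensorPow hM μ) x (h μ)
    rw [mc_tensorPow] at h1
    have h2 : (μ + 1) ^ t ≤ 2 ^ t * μ ^ t := by
      rw [← mul_pow]
      exact Nat.pow_le_pow_left (by omega) t
    calc μ ^ m ≤ a * HZ k X (mc M ^ μ) := hg μ hμ
      _ ≤ a * (C * (μ + 1) ^ t) := Nat.mul_le_mul_left _ (h1.trans (hC μ))
      _ ≤ a * (C * (2 ^ t * μ ^ t)) := Nat.mul_le_mul_left _ (Nat.mul_le_mul_left _ h2)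
      _ = _ := by ring
  by_contra hlt
  push Not at hlt
  have h3 := key (a * C * 2 ^ t + 1) (by omega)
  have h4 : (a * C * 2 ^ t + 1) ^ (t + 1) ≤ (a * C * 2 ^ t + 1) ^ m := Nat.pow_le_pow_right (by omega) hlt
  have h5 : (a * C * 2 ^ t + 1) ^ (t + 1) = (a * C * 2 ^ t + 1) ^ t * (a * C * 2 ^ t + 1) := pow_succ _ _
  have h6 : 0 < (a * C * 2 ^ t + 1) ^ t := Nat.pow_pos (Nat.succ_pos _)
  nlinarith

end

end K480.IitGrow
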