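import Groth.Agent.Vanish.K480.IitGrow
import Groth.Agent.PosLin.K931.Basic
import Groth.Agent.Pic13.H946.Exist
import Groth.Agent.Ega2.H295.PnUniq
import Groth.Agent.CycB.DivFun

/-!
# Algebraically independent ratios of sections from growth

`exists_sections`: `X` integral and proper over a field `k`, with an ample module; if
`μ^m ≤ a h^0(M^μ)` for all `μ ≥ 1`, there are sections `s₀, …, s_m` of a power `M^e`, `e > 0`, whose ratios
`s_i / s₀` are algebraically independent over `k`.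
-/

set_option autoImplicit false
universe u
open CategoryTheory CategoryTheory.Limits AlgebraicGeometry Opposite TopologicalSpace

namespace K480.IitSec

open Groth.Agent Groth.Agent.Fga Groth.Agent.Fga.PicMon Groth.Agent.Fdesc.LocGen K910.HZ
open Groth.Agent.VarietyB.ProjGlue

variable {X : Scheme.{u}}

/-- Multiplying a section of a power by powers of `s₀`. -/
theorem exists_mul {M : X.Modules} (s₀ : Coh.structureModule X ⟶ M) (U : X.Opens) (f : Γ(X, U)) (μ : ℕ)
    (s : Coh.structureModule X ⟶ CohB1.tensorPow M μ) (hs : sec s U = f • pow (sec s₀ U) μ) (n : ℕ) (hn : μ ≤ n) :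
    ∃ s' : Coh.structureModule X ⟶ CohB1.tensorPow M n, sec s' U = f • pow (sec s₀ U) n := by
  induction n, hn using Nat.le_induction with
  | base => exact ⟨s, hs⟩
  | succ n _ ih =>
    obtain ⟨s', hs'⟩ := ih
    have h : sec (tmulHom s' s₀) U = f • tmul (pow (sec s₀ U) n) (sec s₀ U) := by
      rw [sec_tmulHom, hs', smul_tmul]
    exact ⟨tmulHom s' s₀, h⟩

theorem baseHom_eq {R : Type u} [CommRing R] (p : X ⟶ Spec (CommRingCat.of R)) (U : X.Opens) :
    CoordData.baseHom p U = ((Scheme.ΓSpecIso (CommRingCat.of R)).inv ≫ p.appLE ⊤ U le_top).hom := by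
  ext a
  simp [CoordData.baseHom, Scheme.Hom.appLE, Scheme.Hom.appTop]

section

variable (k : Type u) [Field k] [X.Over (Spec (CommRingCat.of k))] [IsProper (X ↘ Spec (CommRingCat.of k))]
  [IsIntegral X]

theorem exists_sections {H : X.Modules} (hH : CohB1.IsAmple H) {M : X.Modules} (hM : PicF.IsInvertible M)
    (m a : ℕ) (hg : ∀ μ : ℕ, 1 ≤ μ → μ ^ m ≤ a * HZ k X (mc M ^ μ)) :
    ∃ (e : ℕ) (_ : 0 < e) (s : Fin (m + 1) → (Coh.structureModule X ⟶ CohB1.tensorPow M e)) (U : X.Opens)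
      (_ : (U : Set X).Nonempty) (y : Fin m → Γ(X, U)), IsGen (sec (s 0) U) ∧
      (∀ i, sec (s i.succ) U = y i • sec (s 0) U) ∧
      Function.Injective (MvPolynomial.eval₂Hom (CoordData.baseHom (X ↘ Spec (CommRingCat.of k)) U) y) := by
  -- a nonzero section
  obtain ⟨s₀, hs₀⟩ : ∃ s : Coh.structureModule X ⟶ M, s ≠ 0 := by
    rw [← K931.Basic.nontrivial_H0_iff]
    have h1 := hg 1 le_rfl
    rw [pow_one, one_pow] at h1
    by_contra hn
    have := not_nontrivial_iff_subsingleton.mp hn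
    have h2 : HZ k X (mc M) = 0 := Module.finrank_zero_of_subsingleton
    rw [h2, mul_zero] at h1
    omega
  have hη := Pic13.H946.Exist.genericPoint_mem hM s₀ hs₀
  obtain ⟨U, hU, hηU, hUle⟩ := exists_isAffineOpen_mem_and_subset hη
  have hle : U ≤ CohB1.genLocus M s₀ := hUle
  have hgen : IsGen (sec s₀ U) := (le_genLocus_iff s₀ U).mp hle
  -- the algebra
  let b : k →+* Γ(X, U) := CoordData.baseHom (X ↘ Spec (CommRingCat.of k)) U
  let _ : Algebra k Γ(X, U) := b.toAlgebra
  have hbf : b.FiniteType := by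
    show (CoordData.baseHom (X ↘ Spec (CommRingCat.of k)) U).FiniteType
    rw [baseHom_eq]
    exact ((X ↘ Spec (CommRingCat.of k)).finiteType_appLE (isAffineOpen_top _) hU le_top).comp
      (RingHom.FiniteType.of_surjective _
        (Scheme.ΓSpecIso (CommRingCat.of k)).symm.commRingCatIsoToRingEquiv.surjective)
  have : Algebra.FiniteType k Γ(X, U) := hbf
  have : Nonempty U := ⟨⟨_, hηU⟩⟩
  have : IsDomain Γ(X, U) := inferInstance
  obtain ⟨t, y, q, hyV, hy, hq, hqV, hdim⟩ := IitAlg.exists_prime (k := k) (A := Γ(X, U))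
    {f | ∃ (μ : ℕ) (s : Coh.structureModule X ⟶ CohB1.tensorPow M μ), sec s U = f • pow (sec s₀ U) μ}
  -- the point
  let x : X := hU.fromSpec ⟨q, hq⟩
  obtain ⟨hxU, hprime⟩ : ∃ hxU : x ∈ U, hU.primeIdealOf ⟨x, hxU⟩ = ⟨q, hq⟩ :=
    CycB.DivFun.primeIdealOf_fromSpec hU ⟨q, hq⟩
  have hx : ∀ f : Γ(X, U), f ∉ q → x ∈ X.basicOpen f := by
    intro f hf
    have h1 : (⟨q, hq⟩ : PrimeSpectrum Γ(X, U)) ∈ PrimeSpectrum.basicOpen f := hf
    rw [← hU.fromSpec_preimage_basicOpen] at h1
    exact h1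
  have hxdim : topologicalKrullDim (closure {x} : Set X) ≤ t := by
    have h1 := K430.FibOm.dim_closure_eq (X ↘ Spec (CommRingCat.of k)) (isAffineOpen_top _)
      ((Scheme.ΓSpecIso (CommRingCat.of k)).commRingCatIsoToRingEquiv.toMulEquiv.isField (Field.toIsField k)) x hU hxU
    rw [h1, hprime]
    exact hdim
  have hmt : m ≤ t := by
    refine IitGrow.le_of_growth k hH hM x ?_ t m a hxdim hg
    intro μ s hs
    obtain ⟨f, hf⟩ := (hgen.pow μ).exists_eq (sec s U)
    have hf0 : f ≠ 0 := by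
      rintro rfl
      rw [zero_smul] at hf
      have h1 := Pic13.H946.Exist.genericPoint_mem (isInvertible_tensorPow hM μ) s hs
      have h2 := genLocus_inf_eq s (hgen.pow μ) (a := 0) (by rw [hf, zero_smul])
      have h3 : genericPoint X ∈ CohB1.genLocus _ s ⊓ U := ⟨h1, hηU⟩
      rw [h2] at h3
      simp at h3
    have h2 := genLocus_inf_eq s (hgen.pow μ) hf
    have h3 : x ∈ CohB1.genLocus _ s ⊓ U := h2 ▸ hx f (hqV f ⟨μ, s, hf⟩ hf0)
    exact h3.1
  -- the sections
  choose μ' s' hs' using hyV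
  let e : ℕ := 1 + ∑ i, μ' i
  have he : ∀ i, μ' i ≤ e := fun i =>
    (Finset.single_le_sum (f := μ') (fun _ _ => Nat.zero_le _) (Finset.mem_univ i)).trans (Nat.le_add_left _ _)
  choose s'' hs'' using fun i => exists_mul s₀ U (y i) (μ' i) (s' i) (hs' i) e (he i)
  refine ⟨e, by omega, Fin.cons (powHom s₀ e) (fun i => s'' (Fin.castLE hmt i)), U, ⟨_, hηU⟩,
    fun i => y (Fin.castLE hmt i), ?_, ?_, ?_⟩
  · rw [Fin.cons_zero, sec_powHom]
    exact hgen.pow e
  · intro i
    rw [Fin.cons_succ, Fin.cons_zero, sec_powHom]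
    exact hs'' _
  · have h1 : AlgebraicIndependent k (fun i : Fin m => y (Fin.castLE hmt i)) :=
      hy.comp _ (Fin.castLE_injective hmt)
    exact h1

end

end K480.IitSec
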